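import Cfsg.Agent.H413.JOneLocal
set_option linter.all false

/-!
# The spectrum of the first Janko group

`spec : Set.range (orderOf : J1 → ℕ) = {1, 2, 3, 5, 6, 7, 10, 11, 15, 19}`.
-/

set_option autoImplicit false

namespace Cfsg.Agent.H413.JOneSpec

open Subgroup
open Cfsg.Agent.SporadicB.J1.Mat Cfsg.Agent.SporadicB.J1.Data
open Cfsg.Agent.SporadicB.J1.Main
open Cfsg.Spor (jankoX jankoY J1)
open Cfsg.Agent.SporRec.J1.Defs
open Cfsg.Agent.H413.JOneLocal

section abstract_part

variable {K : Type*} [Group K] [Finite K]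

theorem card_cent_two (h : Local K) {y : K} (hy : orderOf y = 2) :
    Nat.card (centralizer ({y} : Set K)) = 120 := by
  obtain ⟨e⟩ := h.cent y hy
  rw [Nat.card_congr e.toEquiv, Nat.card_prod, Cfsg.Agent.Lib.VonDyck.card_alternating5,
    Nat.card_congr Multiplicative.toAdd, Nat.card_zmod]

omit [Finite K] in
theorem mem_cent_dvd {x y : K} (hxy : x * y = y * x) : orderOf x ∣ Nat.card (centralizer ({y} : Set K)) := by
  have hm : x ∈ centralizer ({y} : Set K) := mem_centralizer_singleton_iff.mpr hxy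
  exact Subgroup.orderOf_dvd_natCard _ hm

/-- elements of order 7, 11, 19 -/
def Big (s : ℕ) : Prop := s = 7 ∨ s = 11 ∨ s = 19

theorem not_small (h : Local K) {x y : K} (hx : Big (orderOf x))
    (hy : orderOf y = 2 ∨ orderOf y = 3 ∨ orderOf y = 5) (hxy : x * y = y * x) : False := by
  have h1 := mem_cent_dvd hxy
  have h2 : Nat.card (centralizer ({y} : Set K)) ∣ 120 := by
    rcases hy with hy | hy | hy
    · rw [card_cent_two h hy]
    · rw [h.cent3 y hy]
      norm_num
    · rw [h.cent5 y hy]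
      norm_num
  have h3 := h1.trans h2
  rcases hx with hx | hx | hx <;> rw [hx] at h3 <;> norm_num at h3

theorem cent_big (h : Local K) (hc : Nat.card K = 175560) {x : K} (hx : Big (orderOf x)) :
    Nat.card (centralizer ({x} : Set K)) ∣ 1463 := by
  have h1 : Nat.card (centralizer ({x} : Set K)) ∣ 120 * 1463 := by
    have := (centralizer ({x} : Set K)).card_subgroup_dvd_card
    rwa [hc] at this
  have hcop : ∀ p : ℕ, p.Prime → (p = 2 ∨ p = 3 ∨ p = 5) → ¬ p ∣ Nat.card (centralizer ({x} : Set K)) := by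
    intro p hp hp' hd
    have : Fact p.Prime := ⟨hp⟩
    obtain ⟨y, hy⟩ := exists_prime_orderOf_dvd_card' (G := centralizer ({x} : Set K)) p hd
    refine not_small h (y := (y : K)) hx ?_ (mem_centralizer_singleton_iff.mp y.2).symm
    rw [Subgroup.orderOf_coe, hy]
    exact hp'
  refine Nat.Coprime.dvd_of_dvd_mul_left ?_ h1
  have h2 : (120 : ℕ) = 2 ^ 3 * 3 * 5 := by norm_num
  rw [h2]
  refine Nat.Coprime.mul_right (Nat.Coprime.mul_right (Nat.Coprime.pow_right _ ?_) ?_) ?_
  · exact ((Nat.Prime.coprime_iff_not_dvd Nat.prime_two).mpr (hcop 2 Nat.prime_two (by tauto))).symm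
  · exact ((Nat.Prime.coprime_iff_not_dvd Nat.prime_three).mpr (hcop 3 Nat.prime_three (by tauto))).symm
  · exact ((Nat.Prime.coprime_iff_not_dvd Nat.prime_five).mpr (hcop 5 Nat.prime_five (by tauto))).symm

/-- the Sylow count for a cyclic Sylow subgroup `⟨x⟩` of prime order `s` -/
theorem count {s : ℕ} (hs : s.Prime) {x : K} (hx : orderOf x = s) (h2 : ¬ s * s ∣ Nat.card K) :
    ∃ e m, e ∣ s - 1 ∧ Nat.card (centralizer ({x} : Set K)) * e * m = Nat.card K ∧ m % s = 1 ∧
      m = (normalizer (zpowers x : Set K)).index := by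
  have hsf : Fact s.Prime := ⟨hs⟩
  have hzc : Nat.card (zpowers x) = s := by rw [Nat.card_zpowers, hx]
  have hp : IsPGroup s (zpowers x) := by
    rw [IsPGroup.iff_card]
    exact ⟨1, by rw [hzc, pow_one]⟩
  have hi : ¬ s ∣ (zpowers x).index := by
    intro hd
    apply h2
    rw [← (zpowers x).card_mul_index, hzc]
    exact Nat.mul_dvd_mul dvd_rfl hd
  let P : Sylow s K := hp.toSylow hi
  have hP : (P : Subgroup K) = zpowers x := rfl
  have h3 : Nat.card (Sylow s K) = (normalizer (zpowers x : Set K)).index := P.card_eq_index_normalizer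
  have h4 := card_sylow_modEq_one s K
  have hcen : centralizer ((zpowers x : Subgroup K) : Set K) = centralizer ({x} : Set K) := by
    rw [zpowers_eq_closure, centralizer_closure]
  -- `e = |N : C|`
  have hle : centralizer ((zpowers x : Subgroup K) : Set K) ≤ normalizer ((zpowers x : Subgroup K) : Set K) :=
    centralizer_le_normalizer _
  have key := card_dvd_of_injective _ (QuotientGroup.kerLift_injective (zpowers x).normalizerMonoidHom)
  rw [normalizerMonoidHom_ker, ← Subgroup.index, ← relIndex, IsCyclic.card_mulAut, hzc,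
    Nat.totient_prime hs] at key
  refine ⟨_, _, key, ?_, ?_, rfl⟩
  · have h6 := Subgroup.relIndex_mul_relIndex ⊥ (centralizer ((zpowers x : Subgroup K) : Set K))
      (normalizer ((zpowers x : Subgroup K) : Set K)) bot_le hle
    rw [relIndex_bot_left, relIndex_bot_left] at h6
    rw [← hcen, h6, Subgroup.card_mul_index]
  · rw [← h3]
    have h5 : Nat.card (Sylow s K) % s = 1 % s := h4
    rw [h5, Nat.mod_eq_of_lt hs.one_lt]

theorem arith_seven : ∀ c ∈ Nat.divisors 1463, 7 * 11 ∣ c ∨ 7 * 19 ∣ c → ∀ e ∈ Nat.divisors 6,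
    175560 / (c * e) % 7 = 1 → c = 1463 := by decide +kernel

theorem arith_eleven : ∀ c ∈ Nat.divisors 1463, 7 * 11 ∣ c ∨ 11 * 19 ∣ c → ∀ e ∈ Nat.divisors 10,
    175560 / (c * e) % 11 = 1 → c = 1463 ∧ 175560 / (c * e) = 12 := by decide +kernel

theorem arith_nineteen : ∀ c ∈ Nat.divisors 1463, 7 * 19 ∣ c ∨ 11 * 19 ∣ c → ∀ e ∈ Nat.divisors 18,
    175560 / (c * e) % 19 = 1 → 175560 % (c * e) = 0 → c = 1463 := by decide +kernel

theorem cent_full (h : Local K) (hc : Nat.card K = 175560) {x y : K} (hx : Big (orderOf x))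
    (hy : Big (orderOf y)) (hne : orderOf x ≠ orderOf y) (hxy : x * y = y * x) :
    Nat.card (centralizer ({x} : Set K)) = 1463 ∧
      (orderOf x = 11 → (normalizer (zpowers x : Set K)).index = 12) := by
  have h1 := cent_big h hc hx
  have hxc : orderOf x ∣ Nat.card (centralizer ({x} : Set K)) := mem_cent_dvd rfl
  have hyc : orderOf y ∣ Nat.card (centralizer ({x} : Set K)) := mem_cent_dvd hxy.symm
  have hm : Nat.card (centralizer ({x} : Set K)) ∈ Nat.divisors 1463 := Nat.mem_divisors.mpr ⟨h1, by norm_num⟩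
  have hprime : ∀ s, Big s → s.Prime := by
    rintro s (rfl | rfl | rfl) <;> norm_num
  have hcop : orderOf x * orderOf y ∣ Nat.card (centralizer ({x} : Set K)) :=
    Nat.Coprime.mul_dvd_of_dvd_of_dvd ((Nat.coprime_primes (hprime _ hx) (hprime _ hy)).mpr hne) hxc hyc
  obtain ⟨e, m, he, hprod, hmod, hidx⟩ := count (hprime _ hx) rfl (by
    rw [hc]
    rcases hx with hx | hx | hx <;> rw [hx] <;> norm_num)
  rw [hc] at hprod
  have hpos : 0 < Nat.card (centralizer ({x} : Set K)) * e := by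
    rcases Nat.eq_zero_or_pos (Nat.card (centralizer ({x} : Set K)) * e) with h0 | h0
    · rw [h0] at hprod
      norm_num at hprod
    · exact h0
  have hmd : m = 175560 / (Nat.card (centralizer ({x} : Set K)) * e) := by
    rw [← hprod, Nat.mul_div_cancel_left _ hpos]
  have hmz : 175560 % (Nat.card (centralizer ({x} : Set K)) * e) = 0 := by
    rw [← hprod, Nat.mul_mod_right]
  generalize Nat.card (centralizer ({x} : Set K)) = c at *
  rw [← hidx]
  rcases hx with hx | hx | hx <;> rw [hx] at hcop he hmod hne ⊢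
  · refine ⟨arith_seven c hm ?_ e (Nat.mem_divisors.mpr ⟨he, by norm_num⟩) (by rw [← hmd]; exact hmod),
      by norm_num⟩
    rcases hy with hy | hy | hy <;> rw [hy] at hcop hne
    · exact (hne rfl).elim
    · exact Or.inl hcop
    · exact Or.inr hcop
  · have := arith_eleven c hm (by
      rcases hy with hy | hy | hy <;> rw [hy] at hcop hne
      · exact Or.inl hcop
      · exact (hne rfl).elim
      · exact Or.inr hcop) e (Nat.mem_divisors.mpr ⟨he, by norm_num⟩) (by rw [← hmd]; exact hmod)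
    exact ⟨this.1, fun _ => by rw [hmd]; exact this.2⟩
  · refine ⟨arith_nineteen c hm ?_ e (Nat.mem_divisors.mpr ⟨he, by norm_num⟩) (by rw [← hmd]; exact hmod) hmz,
      by norm_num⟩
    rcases hy with hy | hy | hy <;> rw [hy] at hcop hne
    · exact Or.inl hcop
    · exact Or.inr hcop
    · exact (hne rfl).elim

theorem big_false [IsSimpleGroup K] (h : Local K) (hc : Nat.card K = 175560) {x y : K} (hx : Big (orderOf x))
    (hy : Big (orderOf y)) (hne : orderOf x ≠ orderOf y) (hxy : x * y = y * x) : False := by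
  -- an element of order 11
  obtain ⟨w, hw, hi⟩ : ∃ w : K, orderOf w = 11 ∧ (normalizer (zpowers w : Set K)).index = 12 := by
    by_cases h11 : orderOf x = 11
    · exact ⟨x, h11, (cent_full h hc hx hy hne hxy).2 h11⟩
    · have h1 := (cent_full h hc hx hy hne hxy).1
      have hf : Fact (Nat.Prime 11) := ⟨by norm_num⟩
      obtain ⟨w, hw⟩ := exists_prime_orderOf_dvd_card' (G := centralizer ({x} : Set K)) 11
        (by rw [h1]; norm_num)
      have hw' : orderOf (w : K) = 11 := by rw [Subgroup.orderOf_coe, hw]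
      refine ⟨w, hw', ?_⟩
      exact (cent_full h hc (x := (w : K)) (y := x) (Or.inr (Or.inl hw')) hx (by rw [hw']; exact fun h => h11 h.symm)
        (mem_centralizer_singleton_iff.mp w.2)).2 hw'
  -- `K` acts faithfully on 12 points
  have hN : (normalizer (zpowers w : Set K)).normalCore = ⊥ := by
    rcases (normalCore_normal (normalizer (zpowers w : Set K))).eq_bot_or_eq_top with h1 | h1
    · exact h1
    · exfalso
      have h2 : normalizer (zpowers w : Set K) = ⊤ := top_le_iff.mp (h1 ▸ normalCore_le _)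
      rw [h2, index_top] at hi
      norm_num at hi
  have hker : (MulAction.toPermHom K (K ⧸ normalizer (zpowers w : Set K))).ker = ⊥ := by
    rw [← normalCore_eq_ker, hN]
  have hinj := (MonoidHom.ker_eq_bot_iff _).mp hker
  have h3 := Subgroup.card_dvd_of_injective _ hinj
  rw [Nat.card_perm, ← Subgroup.index, hi, hc] at h3
  have h4 : (19 : ℕ) ∣ Nat.factorial 12 := dvd_trans (by norm_num) h3
  rw [(by norm_num : Nat.Prime 19).dvd_factorial] at h4
  omega

theorem A5_orders : ∀ g : alternatingGroup (Fin 5), g * g = 1 ∨ g * g * g = 1 ∨ g * g * g * g * g = 1 := by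
  decide +kernel

theorem z2_sq (z : Multiplicative (ZMod 2)) : z * z = 1 := by
  revert z; decide

theorem za_pow (x : Multiplicative (ZMod 2) × alternatingGroup (Fin 5)) : x ^ 6 = 1 ∨ x ^ 10 = 1 := by
  obtain ⟨z, g⟩ := x
  have hz := z2_sq z
  have hz6 : z ^ 6 = 1 := by
    calc z ^ 6 = (z * z) ^ 3 := by rw [← pow_two, ← pow_mul]
      _ = 1 := by rw [hz, one_pow]
  have hz10 : z ^ 10 = 1 := by
    calc z ^ 10 = (z * z) ^ 5 := by rw [← pow_two, ← pow_mul]
      _ = 1 := by rw [hz, one_pow]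
  rcases A5_orders g with h | h | h
  · left
    have : g ^ 6 = 1 := by
      calc g ^ 6 = (g * g) ^ 3 := by rw [← pow_two, ← pow_mul]
        _ = 1 := by rw [h, one_pow]
    rw [Prod.pow_mk, hz6, this, Prod.mk_one_one]
  · left
    have : g ^ 6 = 1 := by
      calc g ^ 6 = (g * g * g) ^ 2 := by rw [← pow_two, ← pow_succ, ← pow_mul]
        _ = 1 := by rw [h, one_pow]
    rw [Prod.pow_mk, hz6, this, Prod.mk_one_one]
  · right
    have : g ^ 10 = 1 := by
      calc g ^ 10 = (g * g * g * g * g) ^ 2 := by rw [← pow_two, ← pow_succ, ← pow_succ, ← pow_succ, ← pow_mul]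
        _ = 1 := by rw [h, one_pow]
    rw [Prod.pow_mk, hz10, this, Prod.mk_one_one]

theorem even_case (h : Local K) {g : K} (hg : 2 ∣ orderOf g) : orderOf g ∣ 6 ∨ orderOf g ∣ 10 := by
  obtain ⟨n, hn⟩ := hg
  have hpos : 0 < orderOf g := orderOf_pos g
  have hn0 : n ≠ 0 := by rintro rfl; omega
  have ht : orderOf (g ^ n) = 2 := by
    rw [orderOf_pow_of_dvd hn0 ⟨2, by rw [hn]; ring⟩, hn]
    exact Nat.mul_div_cancel _ (Nat.pos_of_ne_zero hn0)
  obtain ⟨e⟩ := h.cent _ ht
  have hm : g ∈ centralizer ({g ^ n} : Set K) :=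
    mem_centralizer_singleton_iff.mpr ((Commute.refl g).pow_right n)
  have h1 : orderOf g = orderOf (e ⟨g, hm⟩) := by
    rw [MulEquiv.orderOf_eq, Subgroup.orderOf_mk]
  rw [h1, orderOf_dvd_iff_pow_eq_one, orderOf_dvd_iff_pow_eq_one]
  exact za_pow _

theorem odd_divisors : ∀ n ∈ Nat.divisors 21945, n ∈ ({1, 3, 5, 15, 7, 11, 19} : Finset ℕ) ∨
    (7 ∣ n ∧ (3 ∣ n ∨ 5 ∣ n ∨ 11 ∣ n ∨ 19 ∣ n)) ∨ (11 ∣ n ∧ (3 ∣ n ∨ 5 ∣ n ∨ 19 ∣ n)) ∨
      (19 ∣ n ∧ (3 ∣ n ∨ 5 ∣ n)) := by decide +kernel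

theorem orderOf_pow_div {g : K} {p : ℕ} (hp : p ∣ orderOf g) : orderOf (g ^ (orderOf g / p)) = p := by
  have hpos : 0 < orderOf g := orderOf_pos g
  obtain ⟨n, hn⟩ := hp
  have hp0 : 0 < p := Nat.pos_of_ne_zero (by rintro rfl; rw [zero_mul] at hn; omega)
  have hn0 : n ≠ 0 := by rintro rfl; rw [mul_zero] at hn; omega
  rw [hn, Nat.mul_div_cancel_left _ hp0, orderOf_pow_of_dvd hn0 ⟨p, by rw [hn]; ring⟩, hn,
    Nat.mul_div_cancel _ (Nat.pos_of_ne_zero hn0)]

theorem pow_comm_pow (g : K) (i j : ℕ) : g ^ i * g ^ j = g ^ j * g ^ i := by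
  rw [← pow_add, ← pow_add, add_comm]

theorem orderOf_mem [IsSimpleGroup K] (h : Local K) (hc : Nat.card K = 175560) (g : K) :
    orderOf g ∈ ({1, 2, 3, 5, 6, 7, 10, 11, 15, 19} : Finset ℕ) := by
  by_cases h2 : 2 ∣ orderOf g
  · have hpos : 0 < orderOf g := orderOf_pos g
    rcases even_case h h2 with h1 | h1
    · have := Nat.le_of_dvd (by norm_num) h1
      generalize orderOf g = n at *
      interval_cases n <;> revert h1 h2 <;> decide
    · have := Nat.le_of_dvd (by norm_num) h1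
      generalize orderOf g = n at *
      interval_cases n <;> revert h1 h2 <;> decide
  · have h1 : orderOf g ∣ 2 ^ 3 * 21945 := by
      have := orderOf_dvd_natCard g
      rw [hc] at this
      exact this
    have h3 : orderOf g ∣ 21945 := by
      refine Nat.Coprime.dvd_of_dvd_mul_left ?_ h1
      exact Nat.Coprime.pow_right _ ((Nat.Prime.coprime_iff_not_dvd Nat.prime_two).mpr h2).symm
    have hsm : ∀ s p, Big s → (p = 2 ∨ p = 3 ∨ p = 5) → s ∣ orderOf g → p ∣ orderOf g → False := by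
      intro s p hs hp hsd hpd
      refine not_small h (x := g ^ (orderOf g / s)) (y := g ^ (orderOf g / p)) ?_ ?_ (pow_comm_pow g _ _)
      · rw [orderOf_pow_div hsd]; exact hs
      · rw [orderOf_pow_div hpd]; exact hp
    have hbg : ∀ s p, Big s → Big p → s ≠ p → s ∣ orderOf g → p ∣ orderOf g → False := by
      intro s p hs hp hne hsd hpd
      refine big_false h hc (x := g ^ (orderOf g / s)) (y := g ^ (orderOf g / p)) ?_ ?_ ?_ (pow_comm_pow g _ _)
      · rw [orderOf_pow_div hsd]; exact hs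
      · rw [orderOf_pow_div hpd]; exact hp
      · rw [orderOf_pow_div hsd, orderOf_pow_div hpd]; exact hne
    rcases odd_divisors _ (Nat.mem_divisors.mpr ⟨h3, by norm_num⟩) with h4 | ⟨h4, h5⟩ | ⟨h4, h5⟩ | ⟨h4, h5⟩
    · simp only [Finset.mem_insert, Finset.mem_singleton] at h4 ⊢
      tauto
    · exfalso
      rcases h5 with h5 | h5 | h5 | h5
      · exact hsm 7 3 (by unfold Big; tauto) (by tauto) h4 h5
      · exact hsm 7 5 (by unfold Big; tauto) (by tauto) h4 h5
      · exact hbg 7 11 (by unfold Big; tauto) (by unfold Big; tauto) (by norm_num) h4 h5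
      · exact hbg 7 19 (by unfold Big; tauto) (by unfold Big; tauto) (by norm_num) h4 h5
    · exfalso
      rcases h5 with h5 | h5 | h5
      · exact hsm 11 3 (by unfold Big; tauto) (by tauto) h4 h5
      · exact hsm 11 5 (by unfold Big; tauto) (by tauto) h4 h5
      · exact hbg 11 19 (by unfold Big; tauto) (by unfold Big; tauto) (by norm_num) h4 h5
    · exfalso
      rcases h5 with h5 | h5
      · exact hsm 19 3 (by unfold Big; tauto) (by tauto) h4 h5
      · exact hsm 19 5 (by unfold Big; tauto) (by tauto) h4 h5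

end abstract_part

/-! ### Existence -/

theorem ex6 : orderOf (ev [0, 1, 1, 1]) = 6 := by
  have h6 : (ev [0, 1, 1, 1]) ^ 6 = 1 := ((rep_ev _).pow 6).eq Rep.one (by decide +kernel)
  have h3 : (ev [0, 1, 1, 1]) ^ 3 ≠ 1 := ((rep_ev _).pow 3).ne Rep.one (by decide +kernel)
  have h2 : (ev [0, 1, 1, 1]) ^ 2 ≠ 1 := ((rep_ev _).pow 2).ne Rep.one (by decide +kernel)
  refine orderOf_eq_of_pow_and_pow_div_prime (by norm_num) h6 ?_
  intro p hp hd
  have h1 : p ∣ 2 * 3 := hd
  rcases (Nat.Prime.dvd_mul hp).1 h1 with h | h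
  · rw [(Nat.prime_dvd_prime_iff_eq hp Nat.prime_two).1 h]; exact h3
  · rw [(Nat.prime_dvd_prime_iff_eq hp Nat.prime_three).1 h]; exact h2

theorem ex10 : orderOf (ev [0, 1]) = 10 := by
  have h6 : (ev [0, 1]) ^ 10 = 1 := ((rep_ev _).pow 10).eq Rep.one (by decide +kernel)
  have h3 : (ev [0, 1]) ^ 5 ≠ 1 := ((rep_ev _).pow 5).ne Rep.one (by decide +kernel)
  have h2 : (ev [0, 1]) ^ 2 ≠ 1 := ((rep_ev _).pow 2).ne Rep.one (by decide +kernel)
  refine orderOf_eq_of_pow_and_pow_div_prime (by norm_num) h6 ?_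
  intro p hp hd
  have h1 : p ∣ 2 * 5 := hd
  rcases (Nat.Prime.dvd_mul hp).1 h1 with h | h
  · rw [(Nat.prime_dvd_prime_iff_eq hp Nat.prime_two).1 h]; exact h3
  · rw [(Nat.prime_dvd_prime_iff_eq hp Nat.prime_five).1 h]; exact h2

theorem ex15 : orderOf (ev [0, 0, 1, 1, 0, 1, 0, 1, 1]) = 15 := by
  have h6 : (ev [0, 0, 1, 1, 0, 1, 0, 1, 1]) ^ 15 = 1 := ((rep_ev _).pow 15).eq Rep.one (by decide +kernel)
  have h3 : (ev [0, 0, 1, 1, 0, 1, 0, 1, 1]) ^ 5 ≠ 1 := ((rep_ev _).pow 5).ne Rep.one (by decide +kernel)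
  have h2 : (ev [0, 0, 1, 1, 0, 1, 0, 1, 1]) ^ 3 ≠ 1 := ((rep_ev _).pow 3).ne Rep.one (by decide +kernel)
  refine orderOf_eq_of_pow_and_pow_div_prime (by norm_num) h6 ?_
  intro p hp hd
  have h1 : p ∣ 3 * 5 := hd
  rcases (Nat.Prime.dvd_mul hp).1 h1 with h | h
  · rw [(Nat.prime_dvd_prime_iff_eq hp Nat.prime_three).1 h]; exact h3
  · rw [(Nat.prime_dvd_prime_iff_eq hp Nat.prime_five).1 h]; exact h2

theorem ex7 : orderOf (ev [0]) = 7 := by
  have : Fact (Nat.Prime 7) := ⟨by norm_num⟩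
  exact orderOf_eq_prime (((rep_ev _).pow 7).eq Rep.one (by decide +kernel))
    ((rep_ev _).ne Rep.one (by decide +kernel))

theorem ex11 : orderOf (ev [0, 1, 1]) = 11 := by
  have : Fact (Nat.Prime 11) := ⟨by norm_num⟩
  exact orderOf_eq_prime (((rep_ev _).pow 11).eq Rep.one (by decide +kernel))
    ((rep_ev _).ne Rep.one (by decide +kernel))

theorem ex19 : orderOf (ev [0, 0, 0, 1]) = 19 := by
  have : Fact (Nat.Prime 19) := ⟨by norm_num⟩
  exact orderOf_eq_prime (((rep_ev _).pow 19).eq Rep.one (by decide +kernel))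
    ((rep_ev _).ne Rep.one (by decide +kernel))

theorem orderOf_mem_J1 (g : J1) : orderOf g ∈ ({1, 2, 3, 5, 6, 7, 10, 11, 15, 19} : Finset ℕ) := by
  have : IsSimpleGroup J1 := isJ1.1
  exact orderOf_mem isLocal card_J1 g

theorem dvd_mem {n d : ℕ} (hn : ∃ g : J1, orderOf g = n) (hd : d ∣ n) : ∃ g : J1, orderOf g = d := by
  obtain ⟨g, rfl⟩ := hn
  exact ⟨_, orderOf_pow_div hd⟩

/-- **The element orders of `J1`.** -/
theorem exists_orderOf_iff (n : ℕ) :
    (∃ g : J1, orderOf g = n) ↔ n ∈ ({1, 2, 3, 5, 6, 7, 10, 11, 15, 19} : Finset ℕ) := by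
  constructor
  · rintro ⟨g, rfl⟩
    exact orderOf_mem_J1 g
  · intro h
    simp only [Finset.mem_insert, Finset.mem_singleton] at h
    rcases h with rfl | rfl | rfl | rfl | rfl | rfl | rfl | rfl | rfl | rfl
    · exact ⟨1, orderOf_one⟩
    · exact dvd_mem ⟨_, ex6⟩ (by norm_num)
    · exact dvd_mem ⟨_, ex6⟩ (by norm_num)
    · exact dvd_mem ⟨_, ex10⟩ (by norm_num)
    · exact ⟨_, ex6⟩
    · exact ⟨_, ex7⟩
    · exact ⟨_, ex10⟩
    · exact ⟨_, ex11⟩
    · exact ⟨_, ex15⟩
    · exact ⟨_, ex19⟩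

/-- **The spectrum of `J1`.** -/
theorem spec : Set.range (orderOf : J1 → ℕ) = {1, 2, 3, 5, 6, 7, 10, 11, 15, 19} := by
  ext n
  rw [Set.mem_range, exists_orderOf_iff]
  simp

end Cfsg.Agent.H413.JOneSpec
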